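import Cfsg.Agent.H715.Fpr.Row4_m3
import Cfsg.Agent.H940.EngData
import Cfsg.Agent.H970.Sep.Co3Seven
import Cfsg.Agent.Schreier.McLaughlin
import Cfsg.Agent.KFacts.HS.Base
import Cfsg.Agent.FastGrp
import Cfsg.Agent.Prune
set_option linter.all false
prune_inst 0x7f00000000000000000000000000000000000000000000000000000000000000000000000000000000000000000000000000000000000000000000000000000000000000000000000000000000000000003fffffffffffffffffffffffffffbeffbdffffffff
open scoped Cfsg.Agent.FastGrp

-- part: H970/Sep/Struct2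
section
/-!
# The structure at a prime dividing the order once, with the subgroups (helper970)

`struct'` : the statement of `H940.Eng.struct` with the normal subgroup `K` (the largest normal `r'`-subgroup) and the simple
normal subgroup `M` of `X ⧸ K`. `unique_pair` : if a second prime divides `|M|` then `K` and `|M|` are the same for it.
The proofs of `struct_top'` and `struct'` are those of helper940.
-/

set_option autoImplicit false

namespace Cfsg.Agent.H970.Sep

open Subgroup Cfsg.Agent.H940 Cfsg.Agent.H940.Eng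

universe u

/-- the case without normal `r'`-subgroups -/
theorem struct_top' {Y : Type u} [Group Y] [Finite Y] {r : ℕ} (hr : r.Prime)
    (h2 : ¬ r ^ 2 ∣ Nat.card Y) (hno : ∀ N : Subgroup Y, N.Normal → ¬ r ∣ Nat.card N → N = ⊥)
    (R : Subgroup Y) (hR : Nat.card R = r) :
    ∃ (M : Subgroup Y) (ν t : ℕ), M.Normal ∧ IsSimpleGroup M ∧ r ∣ Nat.card M ∧ Nat.card Y = Nat.card M * t ∧
      Nat.card (normalizer (R : Set Y)) = ν * t ∧ r ∣ ν ∧ ν ∣ Nat.card M ∧ Nat.card M / ν ≡ 1 [MOD r] ∧
      (Nat.card M = r ∨ ¬ ∀ a b : M, a * b = b * a) := by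
  have := Fact.mk hr
  have hrY : r ∣ Nat.card Y := hR ▸ card_subgroup_dvd_card R
  obtain ⟨M, hMn, hMs, hrM⟩ := exists_simple_normal hr hrY h2 hno
  have hrM2 : ¬ r ^ 2 ∣ Nat.card M := fun h => h2 (h.trans (card_subgroup_dvd_card M))
  have hRidx : ¬ r ∣ R.index := by
    intro h
    apply h2
    rw [← card_mul_index R, hR, pow_two]
    exact Nat.mul_dvd_mul_left r h
  -- a Sylow subgroup of `M`
  let Q : Sylow r M := default
  have hQ : Nat.card Q = r := by
    have h1 := Q.card_eq_multiplicity
    have h3 : (Nat.card M).factorization r = 1 := by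
      refine le_antisymm ?_ ((hr.dvd_iff_one_le_factorization Nat.card_pos.ne').1 hrM)
      by_contra hlt
      push Not at hlt
      exact hrM2 ((pow_dvd_pow r hlt).trans (Nat.ordProj_dvd _ _))
    rw [h3, pow_one] at h1
    exact h1
  set Q' : Subgroup Y := (Q : Subgroup M).map M.subtype with hQ'
  have hQ'c : Nat.card Q' = r := by
    rw [hQ', card_map_of_injective M.subtype_injective]; exact hQ
  have hRM : R ≤ M := by
    have hP1 : IsPGroup r R := IsPGroup.of_card (n := 1) (by rw [hR, pow_one])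
    have hP2 : IsPGroup r Q' := IsPGroup.of_card (n := 1) (by rw [hQ'c, pow_one])
    have hQidx : ¬ r ∣ Q'.index := by
      intro h
      apply h2
      rw [← card_mul_index Q', hQ'c, pow_two]
      exact Nat.mul_dvd_mul_left r h
    obtain ⟨g, hg⟩ := MulAction.exists_smul_eq Y (hP2.toSylow hQidx) (hP1.toSylow hRidx)
    have h3 : ((g • (hP2.toSylow hQidx) : Sylow r Y) : Subgroup Y) = R := by rw [hg]; rfl
    rw [Sylow.coe_subgroup_smul] at h3
    intro x hx
    rw [← h3] at hx
    obtain ⟨a, ha, rfl⟩ := hx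
    have ha' : a ∈ M := map_subtype_le _ ha
    exact hMn.conj_mem a ha' g
  -- `R` as a Sylow subgroup of `M`
  have hRMc : Nat.card (R.subgroupOf M) = r := by
    rw [Nat.card_congr (subgroupOfEquivOfLe hRM).toEquiv, hR]
  have hRMidx : ¬ r ∣ (R.subgroupOf M).index := by
    intro h
    apply hrM2
    rw [← card_mul_index (R.subgroupOf M), hRMc, pow_two]
    exact Nat.mul_dvd_mul_left r h
  have hRMp : IsPGroup r (R.subgroupOf M) := IsPGroup.of_card (n := 1) (by rw [hRMc, pow_one])
  let P : Sylow r M := hRMp.toSylow hRMidx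
  have hPR : ((P : Subgroup M).map M.subtype) = R := by
    show (R.subgroupOf M).map M.subtype = R
    rw [subgroupOf_map_subtype, inf_eq_left.2 hRM]
  have hfr : normalizer (R : Set Y) ⊔ M = ⊤ := by
    have := Sylow.normalizer_sup_eq_top P
    rwa [hPR] at this
  set N := normalizer (R : Set Y) with hN
  have hcard : Nat.card Y * Nat.card ↥(M ⊓ N) = Nat.card M * Nat.card N := by
    rw [← card_sup_mul_card_inf M N, sup_comm, hfr, card_top]
  obtain ⟨t, ht⟩ := card_subgroup_dvd_card M
  have hMpos : 0 < Nat.card M := Nat.card_pos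
  have hNt : Nat.card N = Nat.card ↥(M ⊓ N) * t := by
    rw [ht, mul_assoc] at hcard
    have := Nat.eq_of_mul_eq_mul_left hMpos hcard
    rw [← this, mul_comm]
  have hMN : Nat.card ↥(M ⊓ N) = Nat.card (normalizer ((P : Subgroup M) : Set M)) := by
    have h1 : (normalizer ((P : Subgroup M) : Set M)).map M.subtype = M ⊓ N := by
      ext x
      rw [mem_map, mem_inf]
      constructor
      · rintro ⟨a, ha, rfl⟩
        refine ⟨a.2, ?_⟩
        rw [hN, mem_normalizer_iff]
        intro z
        constructor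
        · intro hz
          have h3 := (mem_normalizer_iff.1 ha ⟨z, hRM hz⟩).1 hz
          exact h3
        · intro hz
          have hzM : z ∈ M := by
            have h4 := hMn.conj_mem _ (hRM hz) ((a : Y)⁻¹)
            have h5 : (a : Y)⁻¹ * ((a : Y) * z * (a : Y)⁻¹) * ((a : Y)⁻¹)⁻¹ = z := by group
            have h6 : (M.subtype a) = (a : Y) := rfl
            rw [h6] at h4
            rwa [h5] at h4
          exact (mem_normalizer_iff.1 ha ⟨z, hzM⟩).2 hz
      · rintro ⟨hxM, hxN⟩
        refine ⟨⟨x, hxM⟩, ?_, rfl⟩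
        rw [mem_normalizer_iff]
        intro z
        exact (mem_normalizer_iff.1 hxN (z : Y))
    rw [← h1, card_map_of_injective M.subtype_injective]
  have hνs : Nat.card ↥(M ⊓ N) ∣ Nat.card M := card_dvd_of_le inf_le_left
  have hrν : r ∣ Nat.card ↥(M ⊓ N) := by
    rw [← hR]
    exact card_dvd_of_le (le_inf hRM le_normalizer)
  refine ⟨M, Nat.card ↥(M ⊓ N), t, hMn, hMs, hrM, ht, hNt, hrν, hνs, ?_, ?_⟩
  · have h3 : Nat.card (Sylow r M) ≡ 1 [MOD r] := card_sylow_modEq_one r M
    rw [Sylow.card_eq_index_normalizer P] at h3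
    have h4 : Nat.card M / Nat.card ↥(M ⊓ N) = (normalizer ((P : Subgroup M) : Set M)).index := by
      rw [hMN]
      apply Nat.div_eq_of_eq_mul_right Nat.card_pos
      exact (card_mul_index _).symm
    rw [h4]
    exact h3
  · by_cases hab : ∀ a b : M, a * b = b * a
    · left
      haveI : IsMulCommutative M := ⟨⟨hab⟩⟩
      let : CommGroup M := { (inferInstance : Group M) with mul_comm := hab }
      have hp : (Nat.card M).Prime := IsSimpleGroup.prime_card (α := M)
      exact ((Nat.prime_dvd_prime_iff_eq hr hp).1 hrM).symm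
    · exact Or.inr hab

/-- **the structure at a prime dividing the order once** -/
theorem struct' {X : Type u} [Group X] [Finite X] {r : ℕ} (hr : r.Prime) (h2 : ¬ r ^ 2 ∣ Nat.card X)
    (R : Subgroup X) (hR : Nat.card R = r) :
    ∃ (K : Subgroup X) (_ : K.Normal) (M : Subgroup (X ⧸ K)) (c ν t : ℕ), (∀ T : Subgroup X, T.Normal → ¬ r ∣ Nat.card T → T ≤ K) ∧
      M.Normal ∧ IsSimpleGroup M ∧ r ∣ Nat.card M ∧
      Nat.card X = Nat.card K * Nat.card M * t ∧ Nat.card (normalizer (R : Set X)) = c * ν * t ∧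
      c ∣ Nat.card (centralizer (R : Set X)) ∧ c ∣ Nat.card K ∧ ¬ r ∣ Nat.card K ∧ r ∣ ν ∧ ν ∣ Nat.card M ∧
      Nat.card M / ν ≡ 1 [MOD r] ∧
      (∀ p : ℕ, p.Prime → ∃ j : ℕ, p ^ j ∣ c ∧ p ^ ((Nat.card K).factorization p) ≡ p ^ j [MOD r]) ∧
      (Nat.card M = r ∨ ¬ ∀ a b : M, a * b = b * a) := by
  have := Fact.mk hr
  obtain ⟨K, ⟨hKn, hrK⟩, hKmax⟩ := exists_card_max (P := fun T : Subgroup X => T.Normal ∧ ¬ r ∣ Nat.card T)
    ⟨⊥, inferInstance, by rw [card_bot]; exact hr.one_lt.ne' ∘ Nat.dvd_one.1⟩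
  let f : X →* X ⧸ K := QuotientGroup.mk' K
  have hf : Function.Surjective f := QuotientGroup.mk'_surjective K
  have hker : f.ker = K := QuotientGroup.ker_mk' K
  have hRK : R ⊓ K = ⊥ := by
    have h3 : Nat.card ↥(R ⊓ K) ∣ r := hR ▸ card_dvd_of_le inf_le_left
    rcases (Nat.dvd_prime hr).1 h3 with h4 | h4
    · exact card_eq_one.1 h4
    · exact absurd (h4 ▸ card_dvd_of_le (inf_le_right : R ⊓ K ≤ K)) hrK
  have hmapcard : ∀ A : Subgroup X, Nat.card ↥(A.map f) * Nat.card ↥(A ⊓ K) = Nat.card A := by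
    intro A
    have h3 := card_mul_index (f.comp A.subtype).ker
    rw [index_ker] at h3
    have h4 : Nat.card (f.comp A.subtype).ker = Nat.card ↥(A ⊓ K) := by
      have h5 : (f.comp A.subtype).ker.map A.subtype = A ⊓ K := by
        ext x
        rw [mem_map, mem_inf]
        constructor
        · rintro ⟨a, ha, rfl⟩
          refine ⟨a.2, ?_⟩
          rw [← hker, MonoidHom.mem_ker]
          exact ha
        · rintro ⟨hxA, hxK⟩
          refine ⟨⟨x, hxA⟩, ?_, rfl⟩
          rw [← hker, MonoidHom.mem_ker] at hxK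
          exact hxK
      rw [← h5, card_map_of_injective A.subtype_injective]
    have h6 : (f.comp A.subtype).range = A.map f := by
      ext y
      constructor
      · rintro ⟨a, rfl⟩
        exact ⟨a, a.2, rfl⟩
      · rintro ⟨a, ha, rfl⟩
        exact ⟨⟨a, ha⟩, rfl⟩
    rw [h4, h6, mul_comm] at h3
    exact h3
  have hXY : Nat.card X = Nat.card K * Nat.card (X ⧸ K) := by
    rw [← index_eq_card, card_mul_index]
  have hRbar : Nat.card ↥(R.map f) = r := by
    have := hmapcard R
    rwa [hRK, card_bot, mul_one, hR] at this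
  have hY2 : ¬ r ^ 2 ∣ Nat.card (X ⧸ K) := fun h => h2 (hXY ▸ (h.trans (dvd_mul_left _ _)))
  have hno : ∀ N : Subgroup (X ⧸ K), N.Normal → ¬ r ∣ Nat.card N → N = ⊥ := by
    intro N hN hrN
    have h3 : Nat.card ↥(N.comap f) = Nat.card K * Nat.card N := MaxCls.card_comap_quot K N
    have h4 := hKmax (N.comap f) ⟨hN.comap f, by
      rw [h3]
      intro h
      rcases hr.dvd_mul.1 h with h5 | h5
      · exact hrK h5
      · exact hrN h5⟩
    rw [h3] at h4
    have h5 : 0 < Nat.card K := Nat.card_pos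
    have h6 : 0 < Nat.card N := Nat.card_pos
    have h7 : Nat.card N ≤ 1 := by
      by_contra hlt
      push Not at hlt
      nlinarith
    exact card_eq_one.1 (le_antisymm h7 h6)
  obtain ⟨M, ν, t, m1, m2, m3, e1, e2, e3, e4, e5, e6⟩ := struct_top' hr hY2 hno (R.map f) hRbar
  set N := normalizer (R : Set X) with hN
  -- the normalizer in the quotient
  have hNbar : normalizer ((R.map f : Subgroup (X ⧸ K)) : Set (X ⧸ K)) = N.map f := by
    apply le_antisymm
    · intro y hy
      obtain ⟨x, rfl⟩ := hf y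
      rw [← conj_eq_iff] at hy
      set R' := R.map (MulAut.conj x).toMonoidHom with hR'
      have hR'c : Nat.card R' = r := by rw [hR', card_map_of_injective (MulAut.conj x).injective, hR]
      -- `R'` and `R` are Sylow subgroups of `L = K R`
      have hR'f : R'.map f = R.map f := by
        rw [← hy, hR', map_map, map_map]
        congr 1
      set L := K ⊔ R with hL
      have hRL : R ≤ L := le_sup_right
      have hR'L : R' ≤ L := by
        intro z hz
        have h3 : f z ∈ R.map f := by rw [← hR'f]; exact ⟨z, hz, rfl⟩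
        obtain ⟨w, hw, hw'⟩ := h3
        have h4 : z * w⁻¹ ∈ K := by
          rw [← hker, MonoidHom.mem_ker, map_mul, map_inv, hw', mul_inv_cancel]
        have h5 : z = (z * w⁻¹) * w := by group
        rw [h5]
        exact mul_mem (mem_sup_left h4) (mem_sup_right hw)
      have hL2 : ¬ r ^ 2 ∣ Nat.card L := fun h => h2 (h.trans (card_subgroup_dvd_card _))
      have hRLc : Nat.card (R'.subgroupOf L) = r := by
        rw [Nat.card_congr (subgroupOfEquivOfLe hR'L).toEquiv, hR'c]
      have hRLc2 : Nat.card (R.subgroupOf L) = r := by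
        rw [Nat.card_congr (subgroupOfEquivOfLe hRL).toEquiv, hR]
      obtain ⟨l, hl⟩ := exists_conj_le hr hL2 hRLc (L := R.subgroupOf L) (by rw [hRLc2])
      have hl' : R'.map (MulAut.conj (l : X)).toMonoidHom = R := by
        apply eq_of_le_of_card_ge
        · rintro _ ⟨z, hz, rfl⟩
          exact hl ⟨⟨z, hR'L hz⟩, hz, rfl⟩
        · rw [card_map_of_injective (MulAut.conj (l : X)).injective, hR'c, hR]
      have hlx : (l : X) * x ∈ N := by
        rw [hN, ← conj_eq_iff]
        have h7 : R.map (MulAut.conj ((l : X) * x)).toMonoidHom =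
            (R.map (MulAut.conj x).toMonoidHom).map (MulAut.conj (l : X)).toMonoidHom := by
          rw [map_map]
          congr 1
          ext z
          simp
        rw [h7]
        exact hl'
      have hlf : f (l : X) ∈ N.map f := by
        have hlL : (l : X) ∈ K ⊔ R := l.2
        rw [mem_sup_of_normal_left] at hlL
        obtain ⟨a, ha, b, hb, hab⟩ := hlL
        refine ⟨b, le_normalizer hb, ?_⟩
        rw [← hab, map_mul]
        have : f a = 1 := by rw [← MonoidHom.mem_ker, hker]; exact ha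
        rw [this, one_mul]
      have h8 : f x = (f (l : X))⁻¹ * f ((l : X) * x) := by rw [map_mul]; group
      rw [h8]
      exact mul_mem (inv_mem hlf) ⟨_, hlx, rfl⟩
    · rintro _ ⟨x, hx, rfl⟩
      rw [← conj_eq_iff]
      have h3 : R.map (MulAut.conj x).toMonoidHom = R := conj_eq_iff.2 hx
      conv_rhs => rw [← h3]
      rw [map_map, map_map]
      congr 1
  have hNc : Nat.card N = Nat.card ↥(N ⊓ K) * ν * t := by
    rw [← hmapcard N, ← hNbar, e2]
    ring
  refine ⟨K, hKn, M, Nat.card ↥(N ⊓ K), ν, t, ?_, m1, m2, m3, by rw [hXY, e1, mul_assoc], hNc, ?_,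
    card_dvd_of_le inf_le_right, hrK, e3, e4, e5, ?_, e6⟩
  · intro T hT hrT
    have h3 := hKmax (K ⊔ T) ⟨inferInstance, not_dvd_card_sup hr K T hrK hrT⟩
    have h4 : K = K ⊔ T := eq_of_le_of_card_ge le_sup_left h3
    rw [h4]
    exact le_sup_right
  · apply card_dvd_of_le
    intro x hx
    have hxN : x ∈ N := (mem_inf.1 hx).1
    have hxK : x ∈ K := (mem_inf.1 hx).2
    rw [mem_centralizer_iff]
    intro a ha
    have h3 : x * a * x⁻¹ * a⁻¹ ∈ R ⊓ K := by
      refine mem_inf.2 ⟨mul_mem ((mem_normalizer_iff.1 hxN a).1 ha) (inv_mem (show a ∈ R from ha)), ?_⟩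
      have h4 : a * x⁻¹ * a⁻¹ ∈ K := hKn.conj_mem _ (inv_mem hxK) a
      have h5 : x * a * x⁻¹ * a⁻¹ = x * (a * x⁻¹ * a⁻¹) := by group
      rw [h5]
      exact mul_mem hxK h4
    rw [hRK, mem_bot] at h3
    have h6 : x * a = a * x := by
      have := congrArg (· * a * x) h3
      simpa [mul_assoc] using this
    exact h6.symm
  · intro p hp
    haveI := Fact.mk hp
    by_cases hpr : p = r
    · subst hpr
      refine ⟨0, by simp, ?_⟩
      rw [Nat.factorization_eq_zero_of_not_dvd hrK]
    · -- an `R`-invariant Sylow `p`-subgroup of `K`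
      let Q0 : Sylow p K := default
      set Q0' : Subgroup X := (Q0 : Subgroup K).map K.subtype with hQ0'
      have hQ0K : Q0' ≤ K := map_subtype_le _
      have hfr : normalizer (Q0' : Set X) ⊔ K = ⊤ := Sylow.normalizer_sup_eq_top Q0
      have hrN : r ∣ Nat.card (normalizer (Q0' : Set X)) := by
        have h3 := card_sup_mul_card_inf K (normalizer (Q0' : Set X))
        rw [sup_comm, hfr, card_top] at h3
        have h4 : r ∣ Nat.card K * Nat.card (normalizer (Q0' : Set X)) := by
          rw [← h3]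
          exact Dvd.dvd.mul_right (hR ▸ card_subgroup_dvd_card R) _
        exact (hr.dvd_mul.1 h4).resolve_left hrK
      obtain ⟨g, hg⟩ := exists_conj_le hr h2 hR hrN
      -- `Q = Q0' conjugated by g⁻¹` is normalized by `R`
      set Q : Subgroup X := Q0'.map (MulAut.conj g⁻¹).toMonoidHom with hQ
      have hQK : Q ≤ K := by
        rintro _ ⟨z, hz, rfl⟩
        exact hKn.conj_mem _ (hQ0K hz) g⁻¹
      have hRQ : R ≤ normalizer (Q : Set X) := by
        intro a ha
        have h3 : g * a * g⁻¹ ∈ normalizer (Q0' : Set X) := hg ⟨a, ha, rfl⟩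
        rw [← conj_eq_iff] at h3 ⊢
        rw [hQ, map_map]
        conv_rhs => rw [← h3, map_map]
        congr 1
        ext z
        simp [mul_assoc]
      have hQc : Nat.card Q = p ^ ((Nat.card K).factorization p) := by
        rw [hQ, card_map_of_injective (MulAut.conj g⁻¹).injective, hQ0', card_map_of_injective K.subtype_injective]
        exact Q0.card_eq_multiplicity
      -- the action of `R` on `Q`
      let : MulAction R Q := {
        smul := fun a z => ⟨(a : X) * z * (a : X)⁻¹, (mem_normalizer_iff.1 (hRQ a.2) z).1 z.2⟩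
        one_smul := fun z => Subtype.ext (by show (1 : X) * z * (1 : X)⁻¹ = z; simp)
        mul_smul := fun a b z => Subtype.ext (by
          show ((a : X) * b) * z * ((a : X) * b)⁻¹ = a * (b * z * (b : X)⁻¹) * (a : X)⁻¹
          group) }
      have hsm : ∀ (a : R) (z : Q), ((a • z : Q) : X) = (a : X) * z * (a : X)⁻¹ := fun _ _ => rfl
      have hRp : IsPGroup r R := IsPGroup.of_card (n := 1) (by rw [hR, pow_one])
      have hmod : Nat.card Q ≡ Nat.card (MulAction.fixedPoints R Q) [MOD r] := hRp.card_modEq_card_fixedPoints Q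
      -- the fixed points
      set D : Subgroup X := Q ⊓ centralizer (R : Set X) with hD
      have hDc : Nat.card (MulAction.fixedPoints R Q) = Nat.card D := by
        refine Nat.card_congr ?_
        refine ⟨fun z => ⟨((z : Q) : X), mem_inf.2 ⟨(z : Q).2, ?_⟩⟩, fun z => ⟨⟨(z : X), (mem_inf.1 z.2).1⟩, ?_⟩, fun z => rfl, fun z => rfl⟩
        · show ((z : Q) : X) ∈ centralizer (R : Set X)
          rw [mem_centralizer_iff]
          intro a ha
          have h3 := congrArg Subtype.val (z.2 ⟨a, ha⟩)
          rw [hsm] at h3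
          have h4 : a * ((z : Q) : X) * a⁻¹ = ((z : Q) : X) := h3
          calc a * ((z : Q) : X) = a * ((z : Q) : X) * a⁻¹ * a := by group
            _ = ((z : Q) : X) * a := by rw [h4]
        · intro a
          apply Subtype.ext
          rw [hsm]
          have h3 := (mem_centralizer_iff.1 (mem_inf.1 z.2).2) (a : X) a.2
          show (a : X) * (z : X) * (a : X)⁻¹ = z
          rw [h3]
          group
      have hDp : IsPGroup p D := by
        have h3 : IsPGroup p Q := IsPGroup.of_card hQc
        exact h3.to_le inf_le_left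
      obtain ⟨j, hj⟩ := IsPGroup.iff_card.1 hDp
      refine ⟨j, ?_, ?_⟩
      · rw [← hj]
        apply card_dvd_of_le
        intro z hz
        have hzQ : z ∈ Q := (mem_inf.1 hz).1
        have hzC : z ∈ centralizer (R : Set X) := (mem_inf.1 hz).2
        refine mem_inf.2 ⟨?_, hQK hzQ⟩
        rw [hN, mem_normalizer_iff]
        intro a
        have h3 : ∀ b ∈ R, z * b * z⁻¹ = b := by
          intro b hb
          rw [← (mem_centralizer_iff.1 hzC) b hb]
          group
        constructor
        · intro ha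
          rw [h3 a ha]
          exact ha
        · intro ha
          have h4 := h3 _ ha
          have h5 : z * a * z⁻¹ = a := by
            have h6 : z * (z * a * z⁻¹) * z⁻¹ = z * a * z⁻¹ := h4
            have h7 : z⁻¹ * (z * (z * a * z⁻¹) * z⁻¹) * z = z⁻¹ * (z * a * z⁻¹) * z := by rw [h6]
            have h8 : z⁻¹ * (z * (z * a * z⁻¹) * z⁻¹) * z = z * a * z⁻¹ := by group
            have h9 : z⁻¹ * (z * a * z⁻¹) * z = a := by group
            rw [h8, h9] at h7
            exact h7
          rw [← h5]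
          exact ha
      · rw [← hQc, ← hj, ← hDc]
        exact hmod


end Cfsg.Agent.H970.Sep
end

-- part: H970/Sep/Joint
section
/-!
# The engine with two primes at once (helper970)

If `r`, `q` divide `|H|` (both exactly once) and `q` divides the order `s` of the simple factor belonging to `r`, then the numbers
`k`, `s`, `t` are the same for both primes. `feas2` is the Boolean test, `Ctx.feas2_of` the soundness, `CI.Good.prune` removes
impossible orders from the list of an item of the covering argument, `Ctx.over2`, `Ctx.apartJ` use it for overgroups.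
-/

set_option autoImplicit false

namespace Cfsg.Agent.H970.Sep

open Subgroup Cfsg.Agent.OrdDiv Cfsg.Agent.H940 Cfsg.Agent.H940.Eng

universe u

/-- a simple normal subgroup meets every normal subgroup trivially or is contained in it -/
theorem inf_eq_bot_or_le {Y : Type u} [Group Y] {M T : Subgroup Y} (hM : IsSimpleGroup M) (hT : T.Normal) :
    T ⊓ M = ⊥ ∨ M ≤ T := by
  rcases (hT.subgroupOf M).eq_bot_or_eq_top with h | h
  · left
    rw [← subgroupOf_map_subtype, h, Subgroup.map_bot]
  · right
    exact subgroupOf_eq_top.1 h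

/-- **uniqueness** : if the second prime divides `|M|` then the two structures are equal -/
theorem unique_pair {X : Type u} [Group X] [Finite X] {r q : ℕ} (hr : r.Prime) (hr2 : ¬ r ^ 2 ∣ Nat.card X)
    (hq2 : ¬ q ^ 2 ∣ Nat.card X) {K K' : Subgroup X} (hKn : K.Normal) (hKn' : K'.Normal) {M : Subgroup (X ⧸ K)}
    {M' : Subgroup (X ⧸ K')} (hK : ∀ T : Subgroup X, T.Normal → ¬ r ∣ Nat.card T → T ≤ K)
    (hK' : ∀ T : Subgroup X, T.Normal → ¬ q ∣ Nat.card T → T ≤ K') (hrK : ¬ r ∣ Nat.card K) (hqK : ¬ q ∣ Nat.card K')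
    (hMn : M.Normal) (hMs : IsSimpleGroup M) (hrM : r ∣ Nat.card M) (hMn' : M'.Normal) (hMs' : IsSimpleGroup M')
    (hqM' : q ∣ Nat.card M') (hqM : q ∣ Nat.card M) : Nat.card K = Nat.card K' ∧ Nat.card M = Nat.card M' := by
  have hXY : ∀ (L : Subgroup X) [L.Normal], Nat.card X = Nat.card L * Nat.card (X ⧸ L) := by
    intro L _
    rw [← index_eq_card, card_mul_index]
  have hqK1 : ¬ q ∣ Nat.card K := by
    intro h
    apply hq2
    rw [hXY K, pow_two]
    exact mul_dvd_mul h (hqM.trans (card_subgroup_dvd_card M))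
  have h1 : K ≤ K' := hK' K hKn hqK1
  -- the image of `K'`
  let f : X →* X ⧸ K := QuotientGroup.mk' K
  have hf : Function.Surjective f := QuotientGroup.mk'_surjective K
  have hker : f.ker = K := QuotientGroup.ker_mk' K
  set T : Subgroup (X ⧸ K) := K'.map f with hT
  have hTn : T.Normal := hKn'.map f hf
  have hcomap : T.comap f = K' := by
    rw [hT, comap_map_eq, hker, sup_eq_left.2 h1]
  have hTc : Nat.card K' = Nat.card K * Nat.card T := by
    rw [← hcomap]
    exact MaxCls.card_comap_quot K T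
  have hMT : T ⊓ M = ⊥ := by
    rcases inf_eq_bot_or_le hMs hTn with h | h
    · exact h
    · exfalso
      apply hqK
      rw [hTc]
      exact (hqM.trans (card_dvd_of_le h)).mul_left _
  have hrK' : ¬ r ∣ Nat.card K' := by
    intro h
    rw [hTc] at h
    have hrT : r ∣ Nat.card T := (hr.dvd_mul.1 h).resolve_left hrK
    have h3 := card_sup_mul_card_inf T M
    rw [hMT, card_bot, mul_one] at h3
    apply hr2
    rw [hXY K, pow_two]
    refine Dvd.dvd.mul_left ?_ _
    refine (mul_dvd_mul hrT hrM).trans ?_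
    rw [← h3]
    exact card_subgroup_dvd_card _
  have h2 : K' ≤ K := hK K' hKn' hrK'
  have h3 : K = K' := le_antisymm h1 h2
  subst h3
  refine ⟨rfl, ?_⟩
  rcases inf_eq_bot_or_le hMs hMn' with h | h
  · exfalso
    have h4 := card_sup_mul_card_inf M' M
    rw [h, card_bot, mul_one] at h4
    apply hq2
    rw [hXY K, pow_two]
    refine Dvd.dvd.mul_left ?_ _
    refine (mul_dvd_mul hqM' hqM).trans ?_
    rw [← h4]
    exact card_subgroup_dvd_card _
  · rcases inf_eq_bot_or_le hMs' hMn with h' | h'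
    · exfalso
      have h4 := card_sup_mul_card_inf M M'
      rw [h', card_bot, mul_one] at h4
      apply hq2
      rw [hXY K, pow_two]
      refine Dvd.dvd.mul_left ?_ _
      refine (mul_dvd_mul hqM hqM').trans ?_
      rw [← h4]
      exact card_subgroup_dvd_card _
    · rw [le_antisymm h h']

/-! ### the test -/

/-- the condition on `(k, s, t)` at `ld` -/
def okT (l : List (ℕ × ℕ)) (ld : LD) (k s t : ℕ) : Bool :=
  s % ld.r == 0 && (ld.N / ld.r) % t == 0 && k % ld.r != 0 && pc l ld.r ld.C k && nuc (divsT ld.fN) ld.r ld.N s t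

/-- the joint condition on the order `m` -/
def feas2 (l : List (ℕ × ℕ)) (ld ld' : LD) (ords : List ℕ) (m : ℕ) : Bool :=
  (ld.r :: ords).any fun s => m % s == 0 && (divsT ld.fN).any fun t => (m / s) % t == 0 &&
    okT l ld (m / s / t) s t && (s % ld'.r != 0 || okT l ld' (m / s / t) s t)

/-- the numbers for one prime, from `struct'` -/
theorem okT_of {G : Type u} [Group G] [Finite G] {l : List (ℕ × ℕ)} {n : ℕ} (hv : valid l n = true)
    (hn : Nat.card G = n) {ld : LD} (hl : Loc G ld) {H : Subgroup G}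
    {R : Subgroup H} (hR : Nat.card R = ld.r) {k s c ν t : ℕ} (e1 : Nat.card H = k * s * t)
    (e2 : Nat.card (normalizer (R : Set H)) = c * ν * t) (e3 : c ∣ Nat.card (centralizer (R : Set H))) (e4 : c ∣ k)
    (e5 : ¬ ld.r ∣ k) (e6 : ld.r ∣ ν) (e7 : ν ∣ s) (e8 : s / ν ≡ 1 [MOD ld.r])
    (e9 : ∀ p : ℕ, p.Prime → ∃ j : ℕ, p ^ j ∣ c ∧ p ^ (k.factorization p) ≡ p ^ j [MOD ld.r]) :
    okT l ld k s t = true ∧ t ∈ divsT ld.fN := by
  obtain ⟨hp, hfN, h2, hloc⟩ := hl
  have := Fact.mk hp
  set R' : Subgroup G := R.map H.subtype with hR'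
  have hR'c : Nat.card R' = ld.r := by rw [hR', card_map_of_injective H.subtype_injective, hR]
  obtain ⟨hC, hN⟩ := hloc R' hR'c
  have hNH : Nat.card (normalizer (R : Set H)) ∣ ld.N := by
    refine dvd_trans ?_ hN
    have h3 : (normalizer (R : Set H)).map H.subtype ≤ normalizer (R' : Set G) := by
      rintro _ ⟨a, ha, rfl⟩
      rw [mem_normalizer_iff]
      intro z
      constructor
      · rintro ⟨w, hw, rfl⟩
        exact ⟨_, (mem_normalizer_iff.1 ha w).1 hw, rfl⟩
      · rintro ⟨w, hw, hw'⟩
        have h4 : a⁻¹ * w * a ∈ R := by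
          have h5 := (mem_normalizer_iff.1 ha (a⁻¹ * w * a)).2 (by
            have h6 : a * (a⁻¹ * w * a) * a⁻¹ = w := by group
            rw [h6]
            exact hw)
          exact h5
        refine ⟨_, h4, ?_⟩
        have h7 : (w : G) = (a : G) * z * (a : G)⁻¹ := hw'
        show ((a⁻¹ * w * a : H) : G) = z
        push_cast
        rw [h7]
        group
    rw [← card_map_of_injective H.subtype_injective]
    exact card_dvd_of_le h3
  have hCH : Nat.card (centralizer (R : Set H)) ∣ ld.C := by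
    refine dvd_trans ?_ hC
    have h3 : (centralizer (R : Set H)).map H.subtype ≤ centralizer (R' : Set G) := by
      rintro _ ⟨a, ha, rfl⟩
      rw [mem_centralizer_iff]
      rintro _ ⟨w, hw, rfl⟩
      exact congrArg Subtype.val ((mem_centralizer_iff.1 ha) w hw)
    rw [← card_map_of_injective H.subtype_injective]
    exact card_dvd_of_le h3
  have hNpos : 0 < ld.N := prodl_pos hfN
  have hHpos : 0 < Nat.card H := Nat.card_pos
  have hkpos : k ≠ 0 := by
    rintro rfl
    rw [zero_mul, zero_mul] at e1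
    omega
  have hHn : Nat.card H ∣ n := hn ▸ card_subgroup_dvd_card H
  have hkn : k ∣ n := dvd_trans (by rw [e1]; exact ⟨s * t, by ring⟩) hHn
  have htpos : 0 < t := Nat.pos_of_ne_zero (by rintro rfl; rw [mul_zero] at e1; omega)
  have hspos : 0 < s := Nat.pos_of_ne_zero (by rintro rfl; rw [mul_zero, zero_mul] at e1; omega)
  obtain ⟨ν', hν'⟩ := e6
  have hrN : ld.N = ld.r * (ld.N / ld.r) := by
    have h3 : ld.r ∣ ld.N := by
      refine dvd_trans ?_ hNH
      rw [e2, hν']
      exact ⟨c * ν' * t, by ring⟩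
    exact (Nat.mul_div_cancel' h3).symm
  have htN : t ∣ ld.N / ld.r := by
    have h3 : ld.r * t ∣ ld.N := by
      refine dvd_trans ?_ hNH
      rw [e2, hν']
      exact ⟨c * ν', by ring⟩
    rw [hrN] at h3
    exact Nat.dvd_of_mul_dvd_mul_left hp.pos h3
  have htN' : t ∣ ld.N := htN.trans (Nat.div_dvd_of_dvd (by rw [hrN]; exact dvd_mul_right _ _))
  refine ⟨?_, mem_divsT hfN htN'⟩
  unfold okT
  rw [Bool.and_eq_true, Bool.and_eq_true, Bool.and_eq_true, Bool.and_eq_true, beq_iff_eq, beq_iff_eq, bne_iff_ne]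
  refine ⟨⟨⟨⟨Nat.mod_eq_zero_of_dvd ((Dvd.intro _ hν'.symm).trans e7), Nat.mod_eq_zero_of_dvd htN⟩,
    fun h => e5 (Nat.dvd_of_mod_eq_zero h)⟩, ?_⟩, ?_⟩
  · unfold pc
    rw [List.all_eq_true]
    intro x hx
    rw [val_le hv hkn x hx]
    obtain ⟨j, hj, hjm⟩ := e9 x.1 (valid_prime hv x hx)
    have hpp := valid_prime hv x hx
    unfold okexp
    rw [List.any_eq_true]
    have hjle : j ≤ k.factorization x.1 := (hpp.pow_dvd_iff_le_factorization hkpos).1 (hj.trans e4)
    refine ⟨j, List.mem_range.2 (by omega), ?_⟩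
    rw [Bool.and_eq_true, beq_iff_eq, beq_iff_eq]
    refine ⟨Nat.mod_eq_zero_of_dvd ((hj.trans e3).trans hCH), ?_⟩
    by_cases hpr : x.1 = ld.r
    · have h3 : k.factorization x.1 = 0 := by
        rw [hpr]
        exact Nat.factorization_eq_zero_of_not_dvd e5
      have h4 : j = 0 := by omega
      rw [h3, h4, Nat.sub_zero, pow_zero]
    · have h3 : x.1 ^ (k.factorization x.1) = x.1 ^ j * x.1 ^ (k.factorization x.1 - j) := by
        rw [← pow_add]
        congr 1
        omega
      have h4 : x.1 ^ j * x.1 ^ (k.factorization x.1 - j) ≡ x.1 ^ j * 1 [MOD ld.r] := by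
        rw [← h3, mul_one]
        exact hjm
      have h5 : Nat.gcd ld.r (x.1 ^ j) = 1 := by
        apply Nat.Coprime.pow_right
        exact (Nat.coprime_primes hp hpp).2 (Ne.symm hpr)
      exact Nat.ModEq.cancel_left_of_coprime h5 h4
  · unfold nuc
    rw [Bool.or_eq_true, List.any_eq_true]
    right
    refine ⟨ν, mem_divsT hfN (dvd_trans ?_ hNH), ?_⟩
    · rw [e2]
      exact ⟨c * t, by ring⟩
    · rw [Bool.and_eq_true, Bool.and_eq_true, Bool.and_eq_true, beq_iff_eq, beq_iff_eq, beq_iff_eq, beq_iff_eq]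
      refine ⟨⟨⟨Nat.mod_eq_zero_of_dvd ⟨ν', hν'⟩, Nat.mod_eq_zero_of_dvd ?_⟩, Nat.mod_eq_zero_of_dvd e7⟩, e8⟩
      obtain ⟨z, hz⟩ := hNH
      rw [hz, e2]
      refine ⟨c * z, ?_⟩
      apply Nat.div_eq_of_eq_mul_left htpos
      ring

/-- a subgroup of prime order -/
theorem exists_sub {H : Type u} [Group H] [Finite H] {r : ℕ} (hr : r.Prime) (h : r ∣ Nat.card H) :
    ∃ R : Subgroup H, Nat.card R = r := by
  have := Fact.mk hr
  obtain ⟨x, hx⟩ := exists_prime_orderOf_dvd_card' r h
  exact ⟨zpowers x, by rw [Nat.card_zpowers, hx]⟩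

/-- **soundness of the joint test** -/
theorem feas2_of {G : Type u} [Group G] [Finite G] {l : List (ℕ × ℕ)} {n : ℕ} (hv : valid l n = true)
    (hn : Nat.card G = n) {ords : List ℕ} (ho : Ords.{u} n ords) {ld ld' : LD} (hl : Loc G ld) (hl' : Loc G ld')
    {H : Subgroup G} (hr : ld.r ∣ Nat.card H) (hr' : ld'.r ∣ Nat.card H) : feas2 l ld ld' ords (Nat.card H) = true := by
  have hH2 : ¬ ld.r ^ 2 ∣ Nat.card H := fun h => hl.2.2.1 (h.trans (card_subgroup_dvd_card H))
  have hH2' : ¬ ld'.r ^ 2 ∣ Nat.card H := fun h => hl'.2.2.1 (h.trans (card_subgroup_dvd_card H))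
  obtain ⟨R, hR⟩ := exists_sub hl.1 hr
  obtain ⟨R', hR'⟩ := exists_sub hl'.1 hr'
  obtain ⟨K, hKn, M, c, ν, t, hK, hMn, hMs, hrM, e1, e2, e3, e4, e5, e6, e7, e8, e9, e10⟩ := struct' hl.1 hH2 R hR
  obtain ⟨K', hKn', M', c', ν', t', hK', hMn', hMs', hrM', f1, f2, f3, f4, f5, f6, f7, f8, f9, f10⟩ := struct' hl'.1 hH2' R' hR'
  obtain ⟨o1, o2⟩ := okT_of hv hn hl hR e1 e2 e3 e4 e5 e6 e7 e8 e9
  obtain ⟨o1', o2'⟩ := okT_of hv hn hl' hR' f1 f2 f3 f4 f5 f6 f7 f8 f9
  have hHpos : 0 < Nat.card H := Nat.card_pos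
  have hHn : Nat.card H ∣ n := hn ▸ card_subgroup_dvd_card H
  have hspos : 0 < Nat.card M := Nat.card_pos
  have hkpos : 0 < Nat.card K := Nat.card_pos
  have htpos : 0 < t := Nat.pos_of_ne_zero (by rintro rfl; rw [mul_zero] at e1; omega)
  have hdiv : Nat.card H / Nat.card M = Nat.card K * t := by
    apply Nat.div_eq_of_eq_mul_left hspos
    rw [e1]
    ring
  have hdiv2 : Nat.card H / Nat.card M / t = Nat.card K := by
    rw [hdiv, Nat.mul_div_cancel _ htpos]
  unfold feas2
  rw [List.any_eq_true]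
  refine ⟨Nat.card M, ?_, ?_⟩
  · rcases e10 with h | h
    · rw [h]
      exact List.mem_cons_self
    · refine List.mem_cons_of_mem _ (ho M hMs h ?_)
      exact dvd_trans (by rw [e1]; exact ⟨Nat.card K * t, by ring⟩) hHn
  · rw [Bool.and_eq_true, beq_iff_eq, List.any_eq_true]
    refine ⟨Nat.mod_eq_zero_of_dvd (by rw [e1]; exact ⟨Nat.card K * t, by ring⟩), t, o2, ?_⟩
    rw [Bool.and_eq_true, Bool.and_eq_true, beq_iff_eq, hdiv2, hdiv]
    refine ⟨⟨Nat.mod_eq_zero_of_dvd (dvd_mul_left _ _), o1⟩, ?_⟩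
    rw [Bool.or_eq_true, bne_iff_ne]
    by_cases hd : Nat.card M % ld'.r = 0
    · right
      obtain ⟨g1, g2⟩ := unique_pair hl.1 hH2 hH2' hKn hKn' hK hK' e5 f5 hMn hMs hrM hMn' hMs' hrM'
        (Nat.dvd_of_mod_eq_zero hd)
      have g3 : t = t' := by
        have h3 := e1.symm.trans f1
        rw [g1, g2] at h3
        exact Nat.eq_of_mul_eq_mul_left (Nat.mul_pos Nat.card_pos Nat.card_pos) h3
      rw [g1, g2, g3]
      exact o1'
    · exact Or.inl hd

/-! ### the interface -/

/-- `jbad` excludes the order `m` of any subgroup -/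
def jbad (l : List (ℕ × ℕ)) (loc : List LD) (ords : List ℕ) (m : ℕ) : Bool :=
  loc.any fun ld => m % ld.r == 0 && loc.any fun ld' => m % ld'.r == 0 && !(feas2 l ld ld' ords m)

theorem not_jbad {G : Type u} [Group G] {l : List (ℕ × ℕ)} {n : ℕ} {ords : List ℕ} {loc : List LD}
    (c : Ctx G l n ords loc) (H : Subgroup G) : jbad l loc ords (Nat.card H) = false := by
  have := c.fin
  unfold jbad
  rw [List.any_eq_false]
  intro ld hld h
  rw [Bool.and_eq_true, beq_iff_eq, List.any_eq_true] at h
  obtain ⟨h1, ld', hld', h2⟩ := h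
  rw [Bool.and_eq_true, beq_iff_eq, Bool.not_eq_true'] at h2
  rw [feas2_of c.val c.card c.ords (c.loc ld hld) (c.loc ld' hld') (Nat.dvd_of_mod_eq_zero h1)
    (Nat.dvd_of_mod_eq_zero h2.1)] at h2
  exact absurd h2.2 (by decide)

/-- remove impossible orders from an item of the covering argument -/
theorem prune {G : Type u} [Group G] {l : List (ℕ × ℕ)} {n : ℕ} {ords : List ℕ} {loc : List LD}
    (c : Ctx G l n ords loc) {x : CI} {A : Subgroup G} (h : x.Good A) (L : List ℕ)
    (hL : (x.ords.all fun m => L.contains m || jbad l loc ords m) = true) : CI.Good { x with ords := L } A := by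
  refine ⟨h.ne, h.dvd, h.full, fun K hAK hK => ?_⟩
  rw [List.all_eq_true] at hL
  have h1 := hL _ (h.ords K hAK hK)
  rw [Bool.or_eq_true, not_jbad c K, List.contains_iff_mem] at h1
  rcases h1 with h1 | h1
  · exact h1
  · exact absurd h1 (by decide)

end Cfsg.Agent.H970.Sep
end

-- part: H970/Sep/RowCo3
section
/-!
# Row `Co₃` of S5906 and S5907 (helper970)

The subgroups `McL`, `HS` and the normalizers of the Sylow subgroups for 23, 7, 3 cannot be covered by four orders.
-/

set_option autoImplicit false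

namespace Cfsg.Agent.H970.Sep.RowCo3

open Subgroup Cfsg.Agent.OrdDiv Cfsg.Agent.H940 Cfsg.Agent.H940.Eng Cfsg.Agent.H940.Eng.D
open Cfsg.Agent.H940.MaxCls Cfsg.Agent.H970.Sep

abbrev G : Type := Cfsg.Spor.Co3

theorem iso : Cfsg.Spor.IsoCo3 G := ⟨MulEquiv.refl _⟩

/-- the local data -/
def loc : List LD := [⟨7, 42, [(2, 2), (3, 2), (7, 1)]⟩, ⟨11, 22, [(2, 1), (5, 1), (11, 1)]⟩, ⟨23, 23, [(11, 1), (23, 1)]⟩]

theorem simple : IsSimpleGroup G := by
  have h := Cfsg.Agent.SporRec.Co3.Chain.isCo3_G3.1
  exact (Cfsg.Agent.SporRec.Co3.Model.equivCo3).isSimpleGroup_congr.1 h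

theorem card : Nat.card G = n_co3 := Cfsg.Agent.H555.TwoSp.card_co3 iso

theorem fin : Finite G := Nat.finite_of_card_ne_zero (by rw [card]; decide)

theorem ctx (B : Base) : Ctx G l_co3 n_co3 o_co3 loc where
  fin := fin
  simple := simple
  card := card
  val := v_co3
  nodup := nd_co3
  ords := ords_co3 B
  loc := by
    have := fin
    intro ld hld
    simp only [loc, List.mem_cons, List.not_mem_nil, or_false] at hld
    rcases hld with rfl | rfl | rfl
    · exact loc_of_eq card (by decide +kernel) (by decide +kernel) (by decide +kernel) fun R hR => by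
        obtain ⟨h1, h2⟩ := Co3.cn7 iso R hR
        rw [h1, h2]; decide
    · exact loc_of_eq card (by decide +kernel) (by decide +kernel) (by decide +kernel) fun R hR => by
        rw [Cfsg.Agent.H555.TwoSp.c11 iso R hR, Cfsg.Agent.H555.TwoSp.n11 iso R hR]; decide
    · exact loc_of_eq card (by decide +kernel) (by decide +kernel) (by decide +kernel) fun R hR => by
        rw [Cfsg.Agent.H555.TwoSp.c23 iso R hR, Cfsg.Agent.H555.TwoSp.n23 iso R hR]; decide

/-! ### the items -/

def x0 : CI := ⟨0, 898128000, [], [898128000, 1796256000, 10777536000, 21555072000]⟩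
def x1 : CI := ⟨1, 44352000, [], [44352000, 88704000, 10777536000, 21555072000]⟩
def x2 : CI := ⟨2, 253, [23], [253, 6072, 10200960, 244823040]⟩
def x3 : CI := ⟨3, 252, [7], [252, 2016, 9072, 16128, 30240, 40824, 72576, 241920, 326592, 580608, 1088640, 1512000,
  2612736, 3628800, 8709120, 12096000, 16329600, 39191040, 130636800]⟩
def x4 : CI := ⟨4, 2187, [3], [4374, 10935, 17496, 30618, 43740, 69984, 109350, 122472, 174960, 273375, 279936, 437400,
  489888, 699840, 1093500, 1119744, 1749600, 1959552, 2799360, 3849120, 4374000, 6998400, 7838208, 11197440, 17496000,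
  19595520, 27993600, 48988800, 69984000, 78382080, 279936000, 10777536000]⟩

def L0 : List ℕ := [898128000, 1796256000]
def L1 : List ℕ := [44352000, 88704000]

def y0 : CI := { x0 with ords := L0 }
def y1 : CI := { x1 with ords := L1 }

theorem cov : covB n_co3 (fun _ _ => false) 4 [y0, y1, x2, x3, x4] = true :=
  Cfsg.Agent.H940.EngF.cov_fast (by decide +kernel)

theorem c0 : chkO l_co3 n_co3 x0.a [(2, 3), (3, 1), (23, 1)] x0.ords x0.full 60 loc o_co3 = true := by exact Cfsg.Agent.H940.EngF.chkO_fast (by decide +kernel)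
theorem c1 : chkO l_co3 n_co3 x1.a [(2, 1), (3, 5), (23, 1)] x1.ords x1.full 60 loc o_co3 = true := by exact Cfsg.Agent.H940.EngF.chkO_fast (by decide +kernel)
theorem c2 : chkO l_co3 n_co3 x2.a [(2, 10), (3, 7), (5, 3), (7, 1)] x2.ords x2.full 60 loc o_co3 = true := by
  exact Cfsg.Agent.H940.EngF.chkO_fast (by decide +kernel)
theorem c3 : chkO l_co3 n_co3 x3.a [(2, 8), (3, 5), (5, 3), (11, 1), (23, 1)] x3.ords x3.full 60 loc o_co3 = true := by
  exact Cfsg.Agent.H940.EngF.chkO_fast (by decide +kernel)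
theorem c4 : chkO l_co3 n_co3 x4.a [(2, 10), (5, 3), (7, 1), (11, 1), (23, 1)] x4.ords x4.full 60 loc o_co3 = true := by
  exact Cfsg.Agent.H940.EngF.chkO_fast (by decide +kernel)

theorem p0 : (x0.ords.all fun m => L0.contains m || jbad l_co3 loc o_co3 m) = true := by decide +kernel
theorem p1 : (x1.ords.all fun m => L1.contains m || jbad l_co3 loc o_co3 m) = true := by decide +kernel

theorem card_mcl : Nat.card (Cfsg.Spor.McL.subgroupOf Cfsg.Spor.Co3) = 898128000 := by
  have h : Cfsg.Spor.McL ≤ Cfsg.Spor.Co3 := inf_le_left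
  exact (Nat.card_congr (subgroupOfEquivOfLe h).toEquiv).trans Cfsg.Agent.Schreier.McLaughlin.card_mcl

theorem card_hs : Nat.card (Cfsg.Spor.HS.subgroupOf Cfsg.Spor.Co3) = 44352000 := by
  have h : Cfsg.Spor.HS ≤ Cfsg.Spor.Co3 := inf_le_left
  exact (Nat.card_congr (subgroupOfEquivOfLe h).toEquiv).trans (Cfsg.Agent.KFacts.HS.card ⟨MulEquiv.refl _⟩)

/-- the row `Co₃` -/
theorem five (B : Base) : Sep 5 G := by
  have c := ctx B
  have := c.fin
  have hs := c.simple
  have hc := card
  have h3p : Nat.Prime 3 := by norm_num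
  have : Fact (Nat.Prime 3) := ⟨h3p⟩
  obtain ⟨R23, h23⟩ := exists_card_eq (G := G) (r := 23) (by decide +kernel) (by rw [hc]; decide +kernel)
  obtain ⟨R7, h7⟩ := exists_card_eq (G := G) (r := 7) (by decide +kernel) (by rw [hc]; decide +kernel)
  have c23 := Cfsg.Agent.H555.TwoSp.n23 iso R23 h23
  have c7 := (Co3.cn7 iso R7 h7).2
  let P : Sylow 3 G := default
  have ne : ∀ {A : Subgroup G} {k : ℕ}, Nat.card A = k → (k != n_co3) = true → A ≠ ⊤ := by
    intro A k h1 h2 h3
    rw [h3, card_top, hc] at h1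
    rw [bne_iff_ne] at h2
    exact h2 h1.symm
  have hP : Nat.card P = 2187 := by
    have h1 := P.card_eq_multiplicity
    rw [hc] at h1
    have h2 : n_co3.factorization 3 = 7 := by
      have h3 : n_co3 = 3 ^ 7 * 226688000 := by decide +kernel
      rw [h3, Nat.factorization_mul (by norm_num) (by norm_num), Finsupp.add_apply, h3p.factorization_pow,
        Finsupp.single_eq_same, Nat.factorization_eq_zero_of_not_dvd (by norm_num)]
    rw [h2] at h1
    rw [h1]
    norm_num
  have hPn : normalizer ((P : Subgroup G) : Set G) ≠ ⊤ := by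
    intro h
    have hn : (P : Subgroup G).Normal := normalizer_eq_top_iff.1 h
    rcases hn.eq_bot_or_eq_top with h1 | h1
    · have h2 : Nat.card P = 1 := by
        have h3 : Nat.card (P : Subgroup G) = 1 := by rw [h1]; exact card_bot
        exact h3
      rw [hP] at h2
      omega
    · exact ne (A := (P : Subgroup G)) hP (by decide +kernel) h1
  have g0 : y0.Good (Cfsg.Spor.McL.subgroupOf Cfsg.Spor.Co3) :=
    prune c (c.goodD (ne card_mcl (by decide +kernel)) (x := x0) (by rw [card_mcl]; decide +kernel)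
      (fun p hp => absurd hp List.not_mem_nil) _ 60 c0) L0 p0
  have g1 : y1.Good (Cfsg.Spor.HS.subgroupOf Cfsg.Spor.Co3) :=
    prune c (c.goodD (ne card_hs (by decide +kernel)) (x := x1) (by rw [card_hs]; decide +kernel)
      (fun p hp => absurd hp List.not_mem_nil) _ 60 c1) L1 p1
  have g2 : x2.Good (normalizer (R23 : Set G)) :=
    c.goodD (ne c23 (by decide +kernel)) (x := x2) (by rw [c23]; decide +kernel)
      (fun p hp => by
        rw [List.mem_singleton.1 hp]
        exact full_of_card hc (by decide +kernel) (by decide +kernel) h23) _ 60 c2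
  have g3 : x3.Good (normalizer (R7 : Set G)) :=
    c.goodD (ne c7 (by decide +kernel)) (x := x3) (by rw [c7]; decide +kernel)
      (fun p hp => by
        rw [List.mem_singleton.1 hp]
        exact full_of_card hc (by decide +kernel) (by decide +kernel) h7) _ 60 c3
  have g4 : x4.Good (normalizer ((P : Subgroup G) : Set G)) :=
    c.goodD hPn (x := x4) (by
        have h1 := card_dvd_of_le (le_normalizer (H := (P : Subgroup G)))
        have h2 : Nat.card (P : Subgroup G) = 2187 := hP
        rw [h2] at h1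
        exact h1)
      (fun p hp => by
        rw [List.mem_singleton.1 hp]
        exact full_normalizer h3p P) _ 60 c4
  let A : CI → Subgroup G := fun x => match x.id with
    | 0 => Cfsg.Spor.McL.subgroupOf Cfsg.Spor.Co3
    | 1 => Cfsg.Spor.HS.subgroupOf Cfsg.Spor.Co3
    | 2 => normalizer (R23 : Set G)
    | 3 => normalizer (R7 : Set G)
    | _ => normalizer ((P : Subgroup G) : Set G)
  refine sep_of_cover (k := 4) hc (fun _ _ => false) [y0, y1, x2, x3, x4] A ?_ ?_ cov
  · intro x hx
    simp only [List.mem_cons, List.not_mem_nil, or_false] at hx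
    rcases hx with rfl | rfl | rfl | rfl | rfl
    · exact g0
    · exact g1
    · exact g2
    · exact g3
    · exact g4
  · intro x _ y _ h
    exact absurd h (by decide)

end Cfsg.Agent.H970.Sep.RowCo3
end

private theorem dce_f878b8912492 : _root_.True := by
  try have : _root_.True := by simp only [_root_.Cfsg.Agent.H970.Sep.RowCo3.loc.eq_1]
  exact _root_.True.intro
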